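import Groth.Agent.Lib.FinPresFree.Abstract
import Groth.Agent.Lib.RlimTrunc.ModSheaf
import Groth.Agent.Lib.ExtZero.Restr
import Mathlib.CategoryTheory.Sites.LocallyBijective
import Mathlib.CategoryTheory.Sites.IsSheafFor

/-!
# Finite sums of free modules on quasi-compact objects
-/

set_option autoImplicit false
set_option linter.unusedSectionVars false

universe u

open CategoryTheory CategoryTheory.Limits Opposite

namespace Groth.Agent.Lib.FinPresFree.Site

open Abstract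

variable {C : Type u} [SmallCategory C] {J : GrothendieckTopology C}

/-- An arrow of `C` as a map of representable sheaves of sets. -/
noncomputable abbrev yMap (J : GrothendieckTopology C) {W U : C} (f : W ⟶ U) :
    (presheafToSheaf J (Type u)).obj (yoneda.obj W) ⟶ (presheafToSheaf J (Type u)).obj (yoneda.obj U) :=
  (presheafToSheaf J (Type u)).map (yoneda.map f)

lemma yMap_apply {W U V : C} (f : W ⟶ U) (k : V ⟶ W) :
    (yMap J f).hom.app (op V) ((toSheafify J (yoneda.obj W)).app (op V) k) =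
      (toSheafify J (yoneda.obj U)).app (op V) (k ≫ f) :=
  (congrArg (fun t : yoneda.obj W ⟶ sheafify J (yoneda.obj U) => t.app (op V) k)
    (toSheafify_naturality J (yoneda.map f))).symm

lemma y_nat {U V V' : C} (g : V' ⟶ V) (k : V ⟶ U) :
    ((presheafToSheaf J (Type u)).obj (yoneda.obj U)).obj.map g.op
      ((toSheafify J (yoneda.obj U)).app (op V) k) =
      (toSheafify J (yoneda.obj U)).app (op V') (g ≫ k) :=
  (NatTrans.naturality_apply (toSheafify J (yoneda.obj U)) g.op k).symm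

/-- A quasi-compact object has finite refinements of coverings, by members of a covering class. -/
theorem exists_finite_cover (B : Set C)
    (hB : ∀ X : C, ∃ (κ : Type u) (Y : κ → C) (g : ∀ k, Y k ⟶ X),
      Sieve.ofArrows Y g ∈ J X ∧ ∀ k, Y k ∈ B)
    (U : C) (hU : CohCx.IsQcObject ((presheafToSheaf J (Type u)).obj (yoneda.obj U)))
    (S : Sieve U) (hS : S ∈ J U) :
    ∃ (n : ℕ) (W : Fin n → C) (f : ∀ i, W i ⟶ U),
      (∀ i, W i ∈ B) ∧ (∀ i, S.arrows (f i)) ∧ Sieve.ofArrows W f ∈ J U := by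
  let η := toSheafify J (yoneda.obj U)
  let I := Σ W : C, {f : W ⟶ U // W ∈ B ∧ S.arrows f}
  have hjs : CohCx.JointlySurjective (fun i : I => yMap J i.2.1) := by
    intro Z s
    refine ⟨Sieve.bind (Presheaf.imageSieve η s).arrows (fun Y g hg =>
        Sieve.bind (S.pullback (Presheaf.localPreimage η s g hg)).arrows
          (fun Y' _ _ => Sieve.ofArrows (hB Y').choose_spec.choose (hB Y').choose_spec.choose_spec.choose)),
      J.bind_covering (Presheaf.imageSieve_mem J η s) (fun Y g hg =>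
        J.bind_covering (J.pullback_stable _ hS)
          (fun Y' _ _ => (hB Y').choose_spec.choose_spec.choose_spec.1)), ?_⟩
    rintro V _ ⟨Y, m, g, hg, ⟨Y', m', h, hh, ⟨Y'', a, _, ⟨k⟩, rfl⟩, rfl⟩, rfl⟩
    let b := (hB Y').choose_spec.choose_spec.choose k
    refine ⟨⟨(hB Y').choose_spec.choose k, b ≫ h ≫ Presheaf.localPreimage η s g hg,
      (hB Y').choose_spec.choose_spec.choose_spec.2 k, S.downward_closed hh b⟩,
      (toSheafify J (yoneda.obj ((hB Y').choose_spec.choose k))).app (op V) a, ?_⟩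
    refine (yMap_apply _ _).trans ?_
    refine (congrArg (fun t => (toSheafify J (yoneda.obj U)).app (op V) t) (?_ : _ =
      ((a ≫ b) ≫ h) ≫ Presheaf.localPreimage η s g hg)).trans ?_
    · simp only [Category.assoc]
    refine (y_nat _ _).symm.trans ((congrArg _ (Presheaf.app_localPreimage η s g hg)).trans ?_)
    exact (ConcreteCategory.congr_hom
      (((presheafToSheaf J (Type u)).obj (yoneda.obj U)).obj.map_comp g.op ((a ≫ b) ≫ h).op) s).symm
  obtain ⟨t, ht⟩ := hU I _ _ hjs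
  let e := (Finset.equivFin t).symm
  refine ⟨_, fun i => (e i).1.1, fun i => (e i).1.2.1, fun i => (e i).1.2.2.1,
    fun i => (e i).1.2.2.2, ?_⟩
  obtain ⟨T, hT, hT'⟩ := ht U (η.app (op U) (𝟙 U))
  refine J.transitive hT _ fun V g hg => ?_
  obtain ⟨i, x, hx⟩ := hT' V g hg
  refine J.transitive (Presheaf.imageSieve_mem J (toSheafify J (yoneda.obj i.1.1)) x) _ fun V' m hm => ?_
  obtain ⟨k, hk⟩ := hm
  have h : η.app (op V') (k ≫ i.1.2.1) = η.app (op V') (m ≫ g) := by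
    refine (yMap_apply _ k).symm.trans ((congrArg _ hk).trans ?_)
    refine (NatTrans.naturality_apply (yMap J i.1.2.1).hom m.op x).trans ((congrArg _ hx).trans ?_)
    exact ((congrArg _ ((y_nat g (𝟙 U)).trans (by rw [Category.comp_id]))).trans (y_nat m g))
  refine J.superset_covering ?_ (Presheaf.equalizerSieve_mem J η (X := op V') _ _ h)
  intro V'' p hp
  have hp' : p ≫ k ≫ i.1.2.1 = p ≫ m ≫ g := hp
  rw [Sieve.pullback_apply, Sieve.pullback_apply, Category.assoc, ← hp']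
  have : e (e.symm i) = i := e.apply_symm_apply i
  generalize e.symm i = j at this
  subst this
  exact ⟨_, p ≫ k, _, Presieve.ofArrows.mk j, by simp⟩

variable (O : Sheaf J CommRingCat.{u})

open Groth.Agent.Lib.RlimTrunc

/-- The free module functor. -/
noncomputable abbrev free : C ⥤ _root_.ModSite.Mod O := ModSheaf.free O

/-- Sections as maps out of free modules. -/
noncomputable def secOf (U : C) (M : _root_.ModSite.Mod O) :
    ((free O).obj U ⟶ M) ≃ (_root_.ModSite.toAb M).obj.obj (op U) :=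
  (ModSheaf.e O U M).trans (SiteCoh.Basic.homEquiv U (_root_.ModSite.toAb M)).toEquiv

lemma secOf_comp {U : C} {M N : _root_.ModSite.Mod O} (s : (free O).obj U ⟶ M) (φ : M ⟶ N) :
    secOf O U N (s ≫ φ) = φ.val.app (op U) (secOf O U M s) := by
  change SiteCoh.Basic.homEquiv U _ (ModSheaf.e O U N (s ≫ φ)) = _
  rw [ModSheaf.e_right]
  exact SiteCoh.Basic.homEquiv_comp _ _

lemma secOf_map {U V : C} (f : V ⟶ U) {M : _root_.ModSite.Mod O} (s : (free O).obj U ⟶ M) :
    secOf O V M ((free O).map f ≫ s) = (_root_.ModSite.toAb M).obj.map f.op (secOf O U M s) := by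
  change SiteCoh.Basic.homEquiv V _ (ModSheaf.e O V M ((free O).map f ≫ s)) = _
  rw [ModSheaf.e_left]
  exact AbSheaf.homEquiv_free_map_comp J f _

/-- The comparison of the two free modules on an object. -/
noncomputable def freeIso (U : C) : _root_.ModSite.freeOn O U ≅ (free O).obj U where
  hom := (ExtZero.Restr.freeOnEquiv U _).symm (secOf O U _ (𝟙 _))
  inv := (secOf O U _).symm (ExtZero.Restr.freeOnEquiv U _ (𝟙 _))
  hom_inv_id := by
    apply (ExtZero.Restr.freeOnEquiv (O := O) U _).injective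
    rw [ExtZero.Restr.freeOnEquiv_comp, AddEquiv.apply_symm_apply]
    exact (secOf_comp O _ _).symm.trans ((congrArg _ (Category.id_comp _)).trans
      (Equiv.apply_symm_apply _ _))
  inv_hom_id := by
    apply (secOf O U _).injective
    rw [secOf_comp, Equiv.apply_symm_apply]
    exact (ExtZero.Restr.freeOnEquiv_comp U _ _).symm.trans ((congrArg _ (Category.id_comp _)).trans
      (AddEquiv.apply_symm_apply _ _))

/-- Gluing of maps out of free modules. -/
theorem exists_glue [HasPullbacks C] {ι : Type*} {U : C} (W : ι → C) (f : ∀ i, W i ⟶ U)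
    (hf : Sieve.ofArrows W f ∈ J U) {M : _root_.ModSite.Mod O} (φ : ∀ i, (free O).obj (W i) ⟶ M)
    (h : ∀ i j, (free O).map (pullback.fst (f i) (f j)) ≫ φ i =
      (free O).map (pullback.snd (f i) (f j)) ≫ φ j) :
    ∃ s : (free O).obj U ⟶ M, ∀ i, (free O).map (f i) ≫ s = φ i := by
  let P : Cᵒᵖ ⥤ Type u := (_root_.ModSite.toAb M).obj ⋙ forget AddCommGrpCat.{u}
  have hP : Presieve.IsSheafFor P (Presieve.ofArrows W f) := by
    rw [Presieve.isSheafFor_iff_generate]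
    exact ((isSheaf_iff_isSheaf_of_type J P).1
      ((sheafCompose J (forget AddCommGrpCat.{u})).obj (_root_.ModSite.toAb M)).property)
        (Sieve.ofArrows W f) hf
  obtain ⟨x, hx, -⟩ := (Presieve.isSheafFor_arrows_iff P f).1 hP
    (fun i => secOf O (W i) M (φ i)) (fun i j Z gi gj hg => by
      have hcomp := congrArg (fun t => (free O).map (pullback.lift gi gj hg) ≫ t) (h i j)
      rw [← Category.assoc, ← Category.assoc, ← Functor.map_comp, ← Functor.map_comp,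
        pullback.lift_fst, pullback.lift_snd] at hcomp
      exact (secOf_map O gi (φ i)).symm.trans ((congrArg _ hcomp).trans (secOf_map O gj (φ j))))
  refine ⟨(secOf O U M).symm x, fun i => (secOf O (W i) M).injective ?_⟩
  rw [secOf_map, Equiv.apply_symm_apply]
  exact hx i

variable (B : Set C)

/-- Finite sums of free modules on members of `B`. -/
def Gen : ObjectProperty (_root_.ModSite.Mod O) := fun M =>
  ∃ (n : ℕ) (U : Fin n → C), (∀ i, U i ∈ B) ∧
    Nonempty (M ≅ ∐ fun i => _root_.ModSite.freeOn O (U i))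

variable {B}

lemma gen_sigma {ι : Type u} [Finite ι] (U : ι → C) (hU : ∀ i, U i ∈ B) :
    Gen O B (∐ fun i => (free O).obj (U i)) := by
  obtain ⟨n, ⟨e⟩⟩ := Finite.exists_equiv_fin ι
  exact ⟨n, U ∘ e.symm, fun i => hU _,
    ⟨(Limits.Sigma.whiskerEquiv (g := fun i => (free O).obj (U i)) e.symm
      (fun i => (freeIso O (U (e.symm i))).symm)).symm⟩⟩

lemma gen_iso_free {P : _root_.ModSite.Mod O} (hP : Gen O B P) :
    ∃ (n : ℕ) (U : Fin n → C), (∀ i, U i ∈ B) ∧ Nonempty (P ≅ ∐ fun i => (free O).obj (U i)) := by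
  obtain ⟨n, U, hU, ⟨e⟩⟩ := hP
  exact ⟨n, U, hU, ⟨e ≪≫ Limits.Sigma.mapIso fun i => freeIso O (U i)⟩⟩

lemma gen_biprod {P Q : _root_.ModSite.Mod O} (hP : Gen O B P) (hQ : Gen O B Q) :
    Gen O B (P ⊞ Q) := by
  obtain ⟨n, U, hU, ⟨eP⟩⟩ := hP
  obtain ⟨m, V, hV, ⟨eQ⟩⟩ := hQ
  let G : Fin n ⊕ Fin m → _root_.ModSite.Mod O := fun x => _root_.ModSite.freeOn O (Sum.elim U V x)
  let e : (∐ fun i => _root_.ModSite.freeOn O (U i)) ⊞ (∐ fun j => _root_.ModSite.freeOn O (V j)) ≅ ∐ G :=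
    { hom := biprod.desc (Sigma.desc fun i => Sigma.ι G (Sum.inl i))
        (Sigma.desc fun j => Sigma.ι G (Sum.inr j))
      inv := Sigma.desc fun x => match x with
        | Sum.inl i => Sigma.ι (fun i => _root_.ModSite.freeOn O (U i)) i ≫ biprod.inl
        | Sum.inr j => Sigma.ι (fun j => _root_.ModSite.freeOn O (V j)) j ≫ biprod.inr
      hom_inv_id := by
        apply biprod.hom_ext' <;> refine Sigma.hom_ext _ _ fun i => ?_ <;> simp <;> exact Sigma.ι_desc _ _
      inv_hom_id := by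
        refine Sigma.hom_ext _ _ fun x => ?_
        rcases x with i | j <;> simp <;> exact Sigma.ι_desc _ _ }
  exact ⟨n + m, Sum.elim U V ∘ finSumFinEquiv.symm,
    fun i => by rcases h : finSumFinEquiv.symm i with k | k <;> simp [h, hU, hV],
    ⟨biprod.mapIso eP eQ ≪≫ e ≪≫
      (Limits.Sigma.whiskerEquiv (g := G) finSumFinEquiv.symm fun _ => Iso.refl _).symm⟩⟩

variable (hB₁ : ∀ X : C, ∃ (κ : Type u) (Y : κ → C) (g : ∀ k, Y k ⟶ X),
    Sieve.ofArrows Y g ∈ J X ∧ ∀ k, Y k ∈ B)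
  (hB₂ : ∀ U ∈ B, CohCx.IsQcObject ((presheafToSheaf J (Type u)).obj (yoneda.obj U)))

include hB₁ hB₂ in
theorem exists_lift {n : ℕ} (U : Fin n → C) (hU : ∀ i, U i ∈ B) {M N : _root_.ModSite.Mod O}
    (p : M ⟶ N) (hp : Epi p) (s : (∐ fun i => (free O).obj (U i)) ⟶ N) :
    ∃ (m : Fin n → ℕ) (W : ∀ i, Fin (m i) → C) (f : ∀ i j, W i j ⟶ U i)
      (x : (∐ fun a : Σ i, Fin (m i) => (free O).obj (W a.1 a.2)) ⟶ M),
      (∀ i j, W i j ∈ B) ∧ (∀ i, Sieve.ofArrows (W i) (f i) ∈ J (U i)) ∧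
      x ≫ p = Sigma.desc (fun a : Σ i, Fin (m i) =>
        (free O).map (f a.1 a.2) ≫ Sigma.ι (fun i => (free O).obj (U i)) a.1) ≫ s := by
  have : ∀ i, ∃ (m : ℕ) (W : Fin m → C) (f : ∀ j, W j ⟶ U i) (x : ∀ j, (free O).obj (W j) ⟶ M),
      (∀ j, W j ∈ B) ∧ Sieve.ofArrows W f ∈ J (U i) ∧
      ∀ j, x j ≫ p = (free O).map (f j) ≫ Sigma.ι (fun i => (free O).obj (U i)) i ≫ s := fun i => by
    obtain ⟨S, hS, hS'⟩ := (ModSheaf.isDetecting O).exists_liftSieve p hp
      (Sigma.ι (fun i => (free O).obj (U i)) i ≫ s)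
    obtain ⟨m, W, f, hW, hfS, hf⟩ := exists_finite_cover B hB₁ _ (hB₂ _ (hU i)) S hS
    choose x hx using fun j => hS' (f j) (hfS j)
    exact ⟨m, W, f, x, hW, hf, hx⟩
  choose m W f x hW hf hx using this
  refine ⟨m, W, f, Sigma.desc fun a => x a.1 a.2, hW, hf, Sigma.hom_ext _ _ fun a => ?_⟩
  simp [hx]

/-- The refinement map is epi. -/
theorem epi_refine {n : ℕ} (U : Fin n → C) (m : Fin n → ℕ) (W : ∀ i, Fin (m i) → C)
    (f : ∀ i j, W i j ⟶ U i) (hf : ∀ i, Sieve.ofArrows (W i) (f i) ∈ J (U i)) :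
    Epi (Sigma.desc (fun a : Σ i, Fin (m i) =>
        (free O).map (f a.1 a.2) ≫ Sigma.ι (fun i => (free O).obj (U i)) a.1)) := by
  refine Preadditive.epi_of_cancel_zero _ fun {Z} k hk => Sigma.hom_ext _ _ fun i => ?_
  rw [comp_zero]
  refine (ModSheaf.isDetecting O).eq_zero_of_cover _ (W i) (f i) (hf i) fun j => ?_
  simpa using congrArg (fun t => Sigma.ι _ (⟨i, j⟩ : Σ i, Fin (m i)) ≫ t) hk

include hB₁ hB₂ in
theorem genAx : GenAx (Gen O B) where
  biprod := gen_biprod O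
  lift {P M N} p hp s hP := by
    obtain ⟨n, U, hU, ⟨e⟩⟩ := gen_iso_free O hP
    obtain ⟨m, W, f, x, hW, hf, hx⟩ := exists_lift O hB₁ hB₂ U hU p hp (e.inv ≫ s)
    haveI := epi_refine O U m W f hf
    refine ⟨_, Sigma.desc (fun a : Σ i, Fin (m i) =>
      (free O).map (f a.1 a.2) ≫ Sigma.ι (fun i => (free O).obj (U i)) a.1) ≫ e.inv, x,
      ?_, epi_comp _ _, by rw [Category.assoc]; exact hx⟩
    let w : ULift.{u} (Σ i, Fin (m i)) → C := fun a => W a.down.1 a.down.2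
    obtain ⟨k, V, hV, ⟨e'⟩⟩ := gen_sigma O w (fun a => hW _ _)
    exact ⟨k, V, hV, ⟨(Limits.Sigma.whiskerEquiv (f := fun a : Σ i, Fin (m i) => (free O).obj (W a.1 a.2))
      (g := fun a => (free O).obj (w a)) Equiv.ulift.symm fun a => Iso.refl _) ≪≫ e'⟩⟩

include hB₁ hB₂ in
theorem liftK [HasPullbacks C]
    (hB₃ : ∀ (U U₁ U₂ : C) (f₁ : U₁ ⟶ U) (f₂ : U₂ ⟶ U), U ∈ B → U₁ ∈ B → U₂ ∈ B →
      CohCx.IsQcObject ((presheafToSheaf J (Type u)).obj (yoneda.obj (pullback f₁ f₂)))) :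
    LiftK (Gen O B) := by
  intro P M N p hp s hP
  obtain ⟨n, U, hU, ⟨e⟩⟩ := gen_iso_free O hP
  obtain ⟨m, W, f, x, hW, hf, hx⟩ := exists_lift O hB₁ hB₂ U hU p hp (e.inv ≫ s)
  haveI := epi_refine O U m W f hf
  let Wf := fun a : Σ i, Fin (m i) => (free O).obj (W a.1 a.2)
  let c₀ : (∐ Wf) ⟶ ∐ fun i => (free O).obj (U i) := Sigma.desc fun a =>
    (free O).map (f a.1 a.2) ≫ Sigma.ι (fun i => (free O).obj (U i)) a.1
  have hgW : Gen O B (∐ Wf) := by
    obtain ⟨k, V, hV, ⟨e'⟩⟩ := gen_sigma O (fun a : ULift.{u} (Σ i, Fin (m i)) => W a.down.1 a.down.2)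
      (fun a => hW _ _)
    exact ⟨k, V, hV, ⟨(Limits.Sigma.whiskerEquiv (f := Wf) Equiv.ulift.symm fun a => Iso.refl _) ≪≫ e'⟩⟩
  haveI : Epi c₀ := epi_refine O U m W f hf
  refine ⟨_, c₀ ≫ e.inv, x, hgW, epi_comp _ _, by rw [Category.assoc]; exact hx, ?_⟩
  choose k V g hV _ hg using fun (a : Σ i, Fin (m i) × Fin (m i)) =>
    exists_finite_cover B hB₁ _ (hB₃ (U a.1) _ _ (f a.1 a.2.1) (f a.1 a.2.2) (hU _) (hW _ _) (hW _ _))
      ⊤ (J.top_mem _)
  let Idx := ULift.{u} (Σ a : (Σ i, Fin (m i) × Fin (m i)), Fin (k a))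
  let d : (∐ fun b : Idx => (free O).obj (V b.down.1 b.down.2)) ⟶ ∐ Wf :=
    Sigma.desc fun b =>
      (free O).map (g b.down.1 b.down.2) ≫
        ((free O).map (pullback.fst (f b.down.1.1 b.down.1.2.1) (f b.down.1.1 b.down.1.2.2)) ≫
            Sigma.ι Wf ⟨b.down.1.1, b.down.1.2.1⟩ -
          (free O).map (pullback.snd (f b.down.1.1 b.down.1.2.1) (f b.down.1.1 b.down.1.2.2)) ≫
            Sigma.ι Wf ⟨b.down.1.1, b.down.1.2.2⟩)
  have hd : d ≫ c₀ = 0 := Sigma.hom_ext _ _ fun b => by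
    simp only [d, c₀, colimit.ι_desc_assoc, Cofan.mk_ι_app, Category.assoc, Preadditive.sub_comp,
      colimit.ι_desc, comp_zero, ← Functor.map_comp_assoc, pullback.condition]
    simp
  have hex : (ShortComplex.mk d c₀ hd).Exact := by
    refine ShortComplex.exact_of_g_is_cokernel _ (CokernelCofork.IsColimit.ofπ' _ _ fun {Z} φ hφ => ?_)
    have hglue : ∀ i, ∃ t : (free O).obj (U i) ⟶ Z, ∀ j,
        (free O).map (f i j) ≫ t = Sigma.ι Wf ⟨i, j⟩ ≫ φ := fun i =>
      exists_glue O (W i) (f i) (hf i) _ fun j l => by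
        rw [← sub_eq_zero]
        refine (ModSheaf.isDetecting O).eq_zero_of_cover _ (V ⟨i, j, l⟩) (g ⟨i, j, l⟩) (hg ⟨i, j, l⟩) fun b => ?_
        have h0 := congrArg (fun t => Sigma.ι _ (ULift.up ⟨⟨i, j, l⟩, b⟩ : Idx) ≫ t) hφ
        simpa [d] using h0
    choose t ht using hglue
    refine ⟨Sigma.desc t, Sigma.hom_ext _ _ fun a => ?_⟩
    simp [c₀]
    exact ht a.1 a.2
  refine ft_kernel_of_exact (g := d) (w := by rw [reassoc_of% hd, zero_comp])
    (gen_sigma O _ fun b => hV _ _) ?_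
  refine ShortComplex.exact_of_iso ?_ hex
  exact ShortComplex.isoMk (Iso.refl _) (Iso.refl _) e.symm (by simp) (by simp)

/-- The presentations of the statements are the `FP` objects. -/
theorem fp_iff (M : _root_.ModSite.Mod O) :
    FP (Gen O B) M ↔ ∃ (m' n' : ℕ) (V' : Fin m' → C) (U' : Fin n' → C)
        (ψ : (∐ fun j => _root_.ModSite.freeOn O (V' j)) ⟶ ∐ fun i => _root_.ModSite.freeOn O (U' i)),
        (∀ j, V' j ∈ B) ∧ (∀ i, U' i ∈ B) ∧ Nonempty (M ≅ cokernel ψ) := by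
  constructor
  · intro h
    obtain ⟨P, Q, ψ, ⟨n, U, hU, ⟨eP⟩⟩, ⟨m, V, hV, ⟨eQ⟩⟩, ⟨e⟩⟩ := exists_presentation h
    exact ⟨m, n, V, U, eQ.inv ≫ ψ ≫ eP.hom, hV, hU,
      ⟨e ≪≫ cokernel.mapIso ψ (eQ.inv ≫ ψ ≫ eP.hom) eQ eP (by simp)⟩⟩
  · rintro ⟨m, n, V, U, ψ, hV, hU, ⟨e⟩⟩
    exact fp_of_presentation ψ ⟨n, U, hU, ⟨Iso.refl _⟩⟩ ⟨m, V, hV, ⟨Iso.refl _⟩⟩ e

end Groth.Agent.Lib.FinPresFree.Site
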