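import Mathlib.CategoryTheory.Abelian.Refinements
import Mathlib.CategoryTheory.Abelian.Exact
import Mathlib.CategoryTheory.Limits.Constructions.FiniteProductsOfBinaryProducts
import Mathlib.CategoryTheory.ObjectProperty.Basic
import Mathlib.Algebra.Homology.ShortComplex.ShortExact

/-!
# Finitely presented objects with respect to a class of generators

`FT`: quotients of generators; `FP`: quotients of generators with `FT` kernel.
-/

set_option autoImplicit false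

universe v u

open CategoryTheory CategoryTheory.Limits

namespace Groth.Agent.Lib.FinPresFree.Abstract

variable {A : Type u} [Category.{v} A] [Abelian A] (Gen : ObjectProperty A)

/-- The axioms on a class of generators. -/
structure GenAx : Prop where
  biprod : ∀ {P Q : A}, Gen P → Gen Q → Gen (P ⊞ Q)
  lift : ∀ {P M N : A} (p : M ⟶ N), Epi p → ∀ (s : P ⟶ N), Gen P →
    ∃ (P' : A) (c : P' ⟶ P) (x : P' ⟶ M), Gen P' ∧ Epi c ∧ x ≫ p = c ≫ s

/-- Quotients of generators. -/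
def FT (M : A) : Prop := ∃ (P : A) (p : P ⟶ M), Gen P ∧ Epi p

/-- Quotients of generators by quotients of generators. -/
def FP (M : A) : Prop := ∃ (P : A) (p : P ⟶ M), Gen P ∧ Epi p ∧ FT Gen (kernel p)

/-- Lifting with control on the kernel. -/
def LiftK : Prop := ∀ {P M N : A} (p : M ⟶ N), Epi p → ∀ (s : P ⟶ N), Gen P →
    ∃ (P' : A) (c : P' ⟶ P) (x : P' ⟶ M), Gen P' ∧ Epi c ∧ x ≫ p = c ≫ s ∧ FT Gen (kernel c)

variable {Gen}

lemma ft_of_epi {M N : A} (f : M ⟶ N) [Epi f] (h : FT Gen M) : FT Gen N := by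
  obtain ⟨P, p, hP, hp⟩ := h
  exact ⟨P, p ≫ f, hP, epi_comp _ _⟩

lemma exists_gen_kernel {X Y : A} {f : X ⟶ Y} (h : FT Gen (kernel f)) :
    ∃ (G : A) (g : G ⟶ X) (w : g ≫ f = 0), Gen G ∧ (ShortComplex.mk g f w).Exact := by
  obtain ⟨G, p, hG, hp⟩ := h
  refine ⟨G, p ≫ kernel.ι f, by simp, hG, ?_⟩
  rw [ShortComplex.exact_iff_epi_kernel_lift]
  convert hp
  exact (cancel_mono (kernel.ι f)).1 (by simp)

lemma ft_kernel_of_exact {G X Y : A} {f : X ⟶ Y} {g : G ⟶ X} {w : g ≫ f = 0} (hG : Gen G)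
    (h : (ShortComplex.mk g f w).Exact) : FT Gen (kernel f) :=
  ⟨G, kernel.lift f g w, hG, (ShortComplex.exact_iff_epi_kernel_lift _).1 h⟩

lemma exact_of_elements {G X Y : A} {f : X ⟶ Y} {g : G ⟶ X} {w : g ≫ f = 0}
    (h : ∀ ⦃T : A⦄ (z : T ⟶ X), z ≫ f = 0 →
      ∃ (T' : A) (π : T' ⟶ T) (_ : Epi π) (x : T' ⟶ G), π ≫ z = x ≫ g) :
    (ShortComplex.mk g f w).Exact :=
  (ShortComplex.exact_iff_exact_up_to_refinements _).2 fun _ z hz => h z hz

lemma fp_of_presentation {P Q M : A} (ψ : Q ⟶ P) (hP : Gen P) (hQ : Gen Q) (e : M ≅ cokernel ψ) :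
    FP Gen M := by
  refine ⟨P, cokernel.π ψ ≫ e.inv, hP, epi_comp _ _, ft_kernel_of_exact (g := ψ) (w := by simp) hQ ?_⟩
  exact ShortComplex.exact_of_iso (ShortComplex.isoMk (S₁ := ShortComplex.mk ψ (cokernel.π ψ)
    (cokernel.condition ψ)) (Iso.refl _) (Iso.refl _) e.symm)
    (ShortComplex.exact_cokernel ψ)

lemma exists_presentation {M : A} (h : FP Gen M) :
    ∃ (P Q : A) (ψ : Q ⟶ P), Gen P ∧ Gen Q ∧ Nonempty (M ≅ cokernel ψ) := by
  obtain ⟨P, p, hP, hp, hk⟩ := h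
  obtain ⟨Q, ψ, w, hQ, hex⟩ := exists_gen_kernel hk
  refine ⟨P, Q, ψ, hP, hQ, ⟨?_⟩⟩
  haveI : Epi (ShortComplex.mk ψ p w).g := hp
  exact IsColimit.coconePointUniqueUpToIso hex.gIsCokernel (colimit.isColimit _)

lemma fp_of_iso {M N : A} (e : M ≅ N) (h : FP Gen M) : FP Gen N := by
  obtain ⟨P, Q, ψ, hP, hQ, ⟨e'⟩⟩ := exists_presentation h
  exact fp_of_presentation ψ hP hQ (e.symm ≪≫ e')

lemma ft_of_fp {M : A} (h : FP Gen M) : FT Gen M := by
  obtain ⟨P, p, hP, hp, -⟩ := h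
  exact ⟨P, p, hP, hp⟩

variable (hG : GenAx Gen)

include hG in
/-- Cokernels of maps from `FT` to `FP` are `FP`. -/
theorem fp_cokernel {F G : A} (α : F ⟶ G) (hF : FT Gen F) (hG' : FP Gen G) : FP Gen (cokernel α) := by
  obtain ⟨P, f, hP, hf⟩ := hF
  obtain ⟨U, π, hU, hπ, hk⟩ := hG'
  obtain ⟨R, r, wr, hR, hr⟩ := exists_gen_kernel hk
  obtain ⟨P', c, x, hP', hc, hx⟩ := hG.lift π hπ (f ≫ α) hP
  refine ⟨U, π ≫ cokernel.π α, hU, epi_comp _ _, ft_kernel_of_exact (g := biprod.desc r x) (w := ?_)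
    (hG.biprod hR hP') (exact_of_elements fun T z hz => ?_)⟩
  · apply biprod.hom_ext'
    · simp [reassoc_of% wr]
    · simp [reassoc_of% hx]
  · obtain ⟨T₁, e₁, _, u, hu⟩ := (ShortComplex.exact_cokernel α).exact_up_to_refinements (z ≫ π)
      (by simpa using hz)
    obtain ⟨T₂, e₂, _, v, hv⟩ := surjective_up_to_refinements_of_epi (c ≫ f) u
    have h2 : (e₂ ≫ e₁ ≫ z - v ≫ x) ≫ π = 0 := by
      rw [Preadditive.sub_comp, Category.assoc, Category.assoc, Category.assoc, hu, hx,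
        reassoc_of% hv, sub_self]
    obtain ⟨T₃, e₃, _, y, hy⟩ := hr.exact_up_to_refinements _ h2
    refine ⟨T₃, e₃ ≫ e₂ ≫ e₁, inferInstance, biprod.lift y (e₃ ≫ v), ?_⟩
    have hy' : e₃ ≫ (e₂ ≫ e₁ ≫ z - v ≫ x) = y ≫ r := hy
    simp only [Category.assoc, biprod.lift_desc, ← hy', Preadditive.comp_sub]
    abel

include hG in
/-- The kernel of any surjection from a generator onto an `FP` object is `FT`. -/
theorem ft_kernel (hK : LiftK Gen) {P M : A} (p : P ⟶ M) [Epi p] (hP : Gen P) (hM : FP Gen M) :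
    FT Gen (kernel p) := by
  obtain ⟨U, π, hU, hπ, hk⟩ := hM
  obtain ⟨R, r, wr, hR, hr⟩ := exists_gen_kernel hk
  obtain ⟨U', c₀, μ, hU', hc₀, hμ, hk₀⟩ := hK p ‹_› π hU
  obtain ⟨R₀, r₀, wr₀, hR₀, hr₀⟩ := exists_gen_kernel hk₀
  obtain ⟨R', c', ρ, hR', hc', hρ⟩ := hG.lift c₀ hc₀ r hR
  obtain ⟨P', c, ν, hP', hc, hν⟩ := hG.lift (c₀ ≫ π) (epi_comp _ _) p hP
  refine ft_kernel_of_exact (g := biprod.desc (c - ν ≫ μ) (biprod.desc r₀ ρ ≫ μ)) (w := ?_)
    (hG.biprod hP' (hG.biprod hR₀ hR')) (exact_of_elements fun T z hz => ?_)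
  · apply biprod.hom_ext'
    · simp [Preadditive.sub_comp, hμ, hν]
    · apply biprod.hom_ext'
      · simp [hμ, reassoc_of% wr₀]
      · simp [hμ, reassoc_of% hρ, wr]
  · obtain ⟨T₁, e₁, _, z', hz'⟩ := surjective_up_to_refinements_of_epi c z
    have h1 : ((z' ≫ ν) ≫ c₀) ≫ π = 0 := by
      rw [Category.assoc, Category.assoc, hν, ← reassoc_of% hz', hz, comp_zero]
    obtain ⟨T₂, e₂, _, w, hw⟩ := hr.exact_up_to_refinements _ h1
    obtain ⟨T₃, e₃, _, w', hw'⟩ := surjective_up_to_refinements_of_epi c' w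
    have hwr : e₂ ≫ (z' ≫ ν) ≫ c₀ = w ≫ r := hw
    have h2 : (e₃ ≫ e₂ ≫ z' ≫ ν - w' ≫ ρ) ≫ c₀ = 0 := by
      simp only [Preadditive.sub_comp, Category.assoc] at hwr ⊢
      rw [hρ, hwr, reassoc_of% hw', sub_self]
    obtain ⟨T₄, e₄, _, w₀, hw₀⟩ := hr₀.exact_up_to_refinements _ h2
    have hw₀' : e₄ ≫ (e₃ ≫ e₂ ≫ z' ≫ ν - w' ≫ ρ) = w₀ ≫ r₀ := hw₀
    refine ⟨T₄, e₄ ≫ e₃ ≫ e₂ ≫ e₁, inferInstance,
      biprod.lift (e₄ ≫ e₃ ≫ e₂ ≫ z') (biprod.lift w₀ (e₄ ≫ w')), ?_⟩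
    have hμ' := congrArg (· ≫ μ) hw₀'
    simp only [Preadditive.comp_sub, Preadditive.sub_comp, Category.assoc] at hμ'
    simp only [biprod.lift_desc, biprod.lift_desc_assoc, Preadditive.add_comp, Preadditive.comp_sub,
      Category.assoc, hz', ← hμ']
    abel

include hG in
/-- Extensions of `FP` objects are `FP`. -/
theorem fp_extension (hK : LiftK Gen) (S : ShortComplex A) (hS : S.ShortExact) (h₁ : FP Gen S.X₁)
    (h₃ : FP Gen S.X₃) : FP Gen S.X₂ := by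
  obtain ⟨U, π, hU, hπ, hk⟩ := h₁
  obtain ⟨R, r, wr, hR, hr⟩ := exists_gen_kernel hk
  obtain ⟨P₃, p₃, hP₃, hp₃⟩ := ft_of_fp h₃
  have := hS.mono_f
  obtain ⟨P, c, s, hP, hc, hs⟩ := hG.lift S.g hS.epi_g p₃ hP₃
  haveI : Epi (c ≫ p₃) := epi_comp _ _
  obtain ⟨Q, q, wq, hQ, hq⟩ := exists_gen_kernel (ft_kernel hG hK (c ≫ p₃) hP h₃)
  have ht : (q ≫ s) ≫ S.g = 0 := by rw [Category.assoc, hs, wq]
  obtain ⟨Q', c', y, hQ', hc', hy⟩ := hG.lift π hπ (hS.exact.lift (q ≫ s) ht) hQ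
  have hy' : y ≫ π ≫ S.f = c' ≫ q ≫ s := by
    rw [reassoc_of% hy, ShortComplex.Exact.lift_f]
  refine ⟨U ⊞ P, biprod.desc (π ≫ S.f) s, hG.biprod hU hP, ?_,
    ft_kernel_of_exact (g := biprod.desc (r ≫ biprod.inl) (biprod.lift (-y) (c' ≫ q))) (w := ?_)
      (hG.biprod hR hQ') (exact_of_elements fun T z hz => ?_)⟩
  · rw [epi_iff_surjective_up_to_refinements]
    intro T z
    obtain ⟨T₁, e₁, _, b, hb⟩ := surjective_up_to_refinements_of_epi (c ≫ p₃) (z ≫ S.g)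
    have h1 : (e₁ ≫ z - b ≫ s) ≫ S.g = 0 := by
      rw [Preadditive.sub_comp, Category.assoc, Category.assoc, hs, hb, sub_self]
    obtain ⟨T₂, e₂, _, a, ha⟩ := surjective_up_to_refinements_of_epi π (hS.exact.lift _ h1)
    refine ⟨T₂, e₂ ≫ e₁, inferInstance, biprod.lift a (e₂ ≫ b), ?_⟩
    have ha' := congrArg (· ≫ S.f) ha
    simp only [Category.assoc, ShortComplex.Exact.lift_f, Preadditive.comp_sub] at ha'
    simp only [biprod.lift_desc, Category.assoc, ← ha']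
    abel
  · apply biprod.hom_ext'
    · simp [reassoc_of% wr]
    · simp [hy']
  · have hb : (z ≫ biprod.snd) ≫ c ≫ p₃ = 0 := by
      have := congrArg (· ≫ S.g) hz
      have e : biprod.desc (π ≫ S.f) s ≫ S.g = biprod.snd ≫ c ≫ p₃ := by
        apply biprod.hom_ext' <;> simp [hs]
      simpa [e] using this
    obtain ⟨T₁, e₁, _, w, hw⟩ := hq.exact_up_to_refinements _ hb
    have hw₀ : e₁ ≫ z ≫ biprod.snd = w ≫ q := hw
    obtain ⟨T₂, e₂, _, w', hw'⟩ := surjective_up_to_refinements_of_epi c' w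
    have hsum : z ≫ biprod.fst ≫ π ≫ S.f + z ≫ biprod.snd ≫ s = 0 := by
      have e : biprod.desc (π ≫ S.f) s = biprod.fst ≫ π ≫ S.f + biprod.snd ≫ s := biprod.desc_eq
      rw [e, Preadditive.comp_add] at hz
      exact hz
    have h2 : (e₂ ≫ e₁ ≫ z ≫ biprod.fst + w' ≫ y) ≫ π = 0 := by
      rw [← cancel_mono S.f, zero_comp]
      have h3 := congrArg (fun t => e₂ ≫ e₁ ≫ t) hsum
      simp only [Preadditive.comp_add, comp_zero] at h3
      simp only [Preadditive.add_comp, Category.assoc, hy', ← reassoc_of% hw', ← reassoc_of% hw₀]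
      exact h3
    obtain ⟨T₃, e₃, _, a, ha⟩ := hr.exact_up_to_refinements _ h2
    have ha' : e₃ ≫ (e₂ ≫ e₁ ≫ z ≫ biprod.fst + w' ≫ y) = a ≫ r := ha
    refine ⟨T₃, e₃ ≫ e₂ ≫ e₁, inferInstance, biprod.lift a (e₃ ≫ w'), biprod.hom_ext _ _ ?_ ?_⟩
    · simp [biprod.lift_desc, ← ha', Preadditive.comp_add]
    · simp [biprod.lift_desc, ← reassoc_of% hw', ← hw₀]

include hG in
/-- Kernels of maps of `FP` objects are `FP` if those of maps of generators are. -/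
theorem fp_kernel (hK : LiftK Gen)
    (hker : ∀ {P Q : A} (φ : P ⟶ Q), Gen P → Gen Q → FP Gen (kernel φ))
    {F G : A} (α : F ⟶ G) (hF : FP Gen F) (hG' : FP Gen G) : FP Gen (kernel α) := by
  obtain ⟨U, π, hU, hπ, hk⟩ := hG'
  obtain ⟨V, ψ, wψ, hV, hψ⟩ := exists_gen_kernel hk
  obtain ⟨P₀, f, hP₀, hf⟩ := ft_of_fp hF
  obtain ⟨P, c, x, hP, hc, hx⟩ := hG.lift π hπ (f ≫ α) hP₀
  haveI : Epi (c ≫ f) := epi_comp _ _
  obtain ⟨R, r, wr, hR, hr⟩ := exists_gen_kernel (ft_kernel hG hK (c ≫ f) hP hF)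
  let θ := biprod.desc x ψ
  have hτ : (kernel.ι θ ≫ biprod.fst ≫ c ≫ f) ≫ α = 0 := by
    have h := congrArg (· ≫ π) (kernel.condition θ)
    simp only [θ, biprod.desc_eq, Preadditive.comp_add, Preadditive.add_comp, Category.assoc, hx,
      wψ, comp_zero, add_zero, zero_comp] at h
    simpa [θ] using h
  let τ : kernel θ ⟶ kernel α := kernel.lift α (kernel.ι θ ≫ biprod.fst ≫ c ≫ f) hτ
  haveI hτe : Epi τ := by
    rw [epi_iff_surjective_up_to_refinements]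
    intro T z
    obtain ⟨T₁, e₁, _, u, hu⟩ := surjective_up_to_refinements_of_epi (c ≫ f) (z ≫ kernel.ι α)
    have h1 : (u ≫ x) ≫ π = 0 := by
      rw [Category.assoc, hx, ← reassoc_of% hu, kernel.condition, comp_zero, comp_zero]
    obtain ⟨T₂, e₂, _, w, hw⟩ := hψ.exact_up_to_refinements _ h1
    have hw' : e₂ ≫ u ≫ x = w ≫ ψ := hw
    refine ⟨T₂, e₂ ≫ e₁, inferInstance,
      kernel.lift θ (biprod.lift (e₂ ≫ u) (-w)) (by simp [θ, biprod.lift_desc, hw']), ?_⟩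
    rw [← cancel_mono (kernel.ι α)]
    simp [τ, hu]
  have hrx : (r ≫ x) ≫ π = 0 := by rw [Category.assoc, hx, reassoc_of% wr, zero_comp]
  haveI : Epi (kernel.lift π ψ wψ) := (ShortComplex.exact_iff_epi_kernel_lift _).1 hψ
  obtain ⟨R', c', y, hR', hc', hy⟩ := hG.lift (kernel.lift π ψ wψ) ‹_› (kernel.lift π (r ≫ x) hrx) hR
  have hy' : y ≫ ψ = c' ≫ r ≫ x := by
    have := congrArg (· ≫ kernel.ι π) hy
    simpa using this
  obtain ⟨N, n, wn, hN, hn⟩ := exists_gen_kernel (show FT Gen (kernel ψ) from by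
    obtain ⟨N, p, hN, hp⟩ := ft_of_fp (hker ψ hV hU)
    exact ⟨N, p, hN, hp⟩)
  let g : R' ⊞ N ⟶ kernel θ := biprod.desc
    (kernel.lift θ (biprod.lift (c' ≫ r) (-y)) (by simp [θ, biprod.lift_desc, hy']))
    (kernel.lift θ (n ≫ biprod.inr) (by simp [θ, wn]))
  have hft : FT Gen (kernel τ) := by
    refine ft_kernel_of_exact (g := g) (w := ?_) (hG.biprod hR' hN) (exact_of_elements fun T z hz => ?_)
    · rw [← cancel_mono (kernel.ι α)]
      apply biprod.hom_ext'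
      · simp [g, τ, wr]
      · simp [g, τ]
    · have hu : (z ≫ kernel.ι θ ≫ biprod.fst) ≫ c ≫ f = 0 := by
        have := congrArg (· ≫ kernel.ι α) hz
        simpa [τ] using this
      obtain ⟨T₁, e₁, _, w, hw⟩ := hr.exact_up_to_refinements _ hu
      have hw₀ : e₁ ≫ z ≫ kernel.ι θ ≫ biprod.fst = w ≫ r := hw
      obtain ⟨T₂, e₂, _, w', hw'⟩ := surjective_up_to_refinements_of_epi c' w
      have hθ : e₂ ≫ e₁ ≫ z ≫ kernel.ι θ ≫ biprod.fst ≫ x + e₂ ≫ e₁ ≫ z ≫ kernel.ι θ ≫ biprod.snd ≫ ψ = 0 := by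
        have h := congrArg (fun t => e₂ ≫ e₁ ≫ z ≫ t) (kernel.condition θ)
        simp only [θ, biprod.desc_eq, Preadditive.comp_add, comp_zero] at h
        simpa [θ] using h
      have h2 : (e₂ ≫ e₁ ≫ z ≫ kernel.ι θ ≫ biprod.snd + w' ≫ y) ≫ ψ = 0 := by
        simp only [Preadditive.add_comp, Category.assoc, hy', ← reassoc_of% hw', ← reassoc_of% hw₀]
        rw [add_comm]
        exact hθ
      obtain ⟨T₃, e₃, _, a, ha⟩ := hn.exact_up_to_refinements _ h2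
      have ha' : e₃ ≫ (e₂ ≫ e₁ ≫ z ≫ kernel.ι θ ≫ biprod.snd + w' ≫ y) = a ≫ n := ha
      refine ⟨T₃, e₃ ≫ e₂ ≫ e₁, inferInstance, biprod.lift (e₃ ≫ w') a, ?_⟩
      rw [← cancel_mono (kernel.ι θ)]
      apply biprod.hom_ext
      · simp [g, biprod.lift_desc, ← reassoc_of% hw', hw₀]
      · simp [g, biprod.lift_desc, ← ha', Preadditive.comp_add]
  obtain ⟨N', p, hN', hp⟩ := hft
  haveI : Epi p := hp
  have hex : (ShortComplex.mk (p ≫ kernel.ι τ) τ (by simp)).Exact :=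
    exact_of_elements fun T z hz => by
      obtain ⟨T', e, he, x', hx'⟩ := surjective_up_to_refinements_of_epi p (kernel.lift τ z hz)
      exact ⟨T', e, he, x', by rw [← reassoc_of% hx', kernel.lift_ι]⟩
  haveI : Epi (ShortComplex.mk (p ≫ kernel.ι τ) τ (by simp)).g := hτe
  exact fp_of_iso (IsColimit.coconePointUniqueUpToIso (colimit.isColimit _) hex.gIsCokernel)
    (fp_cokernel hG (p ≫ kernel.ι τ) ⟨N', 𝟙 _, hN', inferInstance⟩
      (hker θ (hG.biprod hP hV) hU))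

end Groth.Agent.Lib.FinPresFree.Abstract
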