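import Groth.Agent.Lib.FinPresFree.Site
import Groth.Agent.Lib.DerivedOX.Grothendieck
import Mathlib.CategoryTheory.Comma.Over.Basic
import Mathlib.CategoryTheory.Filtered.Connected
import Mathlib.CategoryTheory.Limits.Connected
import Mathlib.CategoryTheory.Abelian.GrothendieckAxioms.Basic
import Mathlib.CategoryTheory.Abelian.FunctorCategory

/-!
# Every module is a filtered colimit of finitely presented ones
-/

set_option autoImplicit false
set_option linter.unusedSectionVars false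

universe u

open CategoryTheory CategoryTheory.Limits Opposite

namespace Groth.Agent.Lib.FinPresFree.Colimit

open Abstract Site

variable {C : Type u} [SmallCategory C] {J : GrothendieckTopology C}
  (O : Sheaf J CommRingCat.{u}) (B : Set C) (F : _root_.ModSite.Mod O)

/-- The presented modules over `F`. -/
structure Idx where
  /-- number of relations -/
  m : ℕ
  /-- number of generators -/
  n : ℕ
  /-- the relations -/
  V : Fin m → C
  /-- the generators -/
  U : Fin n → C
  /-- the presentation -/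
  ψ : (∐ fun j => _root_.ModSite.freeOn O (V j)) ⟶ ∐ fun i => _root_.ModSite.freeOn O (U i)
  hV : ∀ j, V j ∈ B
  hU : ∀ i, U i ∈ B
  /-- the map to `F` -/
  φ : cokernel ψ ⟶ F

/-- The object over `F` of an index. -/
noncomputable abbrev toOver (a : Idx O B F) : Over F := Over.mk a.φ

/-- The indexing category. -/
abbrev Λ := InducedCategory (Over F) (toOver O B F)

/-- The diagram. -/
noncomputable abbrev D : Λ O B F ⥤ _root_.ModSite.Mod O :=
  inducedFunctor (toOver O B F) ⋙ Over.forget F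

/-- The cocone. -/
noncomputable def ι : D O B F ⟶ (Functor.const (Λ O B F)).obj F where
  app a := a.φ
  naturality a b g := (Over.w g.hom).trans (Category.comp_id _).symm

variable {O B F}

/-- An `FP` object over `F` is an index. -/
lemma exists_idx {M : _root_.ModSite.Mod O} (h : FP (Gen O B) M) (φ : M ⟶ F) :
    ∃ a : Idx O B F, Nonempty (toOver O B F a ≅ Over.mk φ) := by
  obtain ⟨m, n, V, U, ψ, hV, hU, ⟨e⟩⟩ := (fp_iff O M).1 h
  exact ⟨⟨m, n, V, U, ψ, hV, hU, e.inv ≫ φ⟩, ⟨Over.isoMk e.symm rfl⟩⟩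

variable (hB₁ : ∀ X : C, ∃ (κ : Type u) (Y : κ → C) (g : ∀ k, Y k ⟶ X),
    Sieve.ofArrows Y g ∈ J X ∧ ∀ k, Y k ∈ B)
  (hB₂ : ∀ U ∈ B, CohCx.IsQcObject ((presheafToSheaf J (Type u)).obj (yoneda.obj U)))

/-- The objects of the diagram are `FP`. -/
lemma fp_obj (a : Λ O B F) : FP (Gen O B) ((D O B F).obj a) :=
  (fp_iff O _).2 ⟨a.m, a.n, a.V, a.U, a.ψ, a.hV, a.hU, ⟨Iso.refl _⟩⟩

lemma fp_biprod {M N : _root_.ModSite.Mod O} (hM : FP (Gen O B) M) (hN : FP (Gen O B) N) :
    FP (Gen O B) (M ⊞ N) := by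
  obtain ⟨P, p, hP, hp, hk⟩ := hM
  obtain ⟨Q, q, hQ, hq, hl⟩ := hN
  obtain ⟨P', r, wr, hP', hr⟩ := exists_gen_kernel hk
  obtain ⟨Q', s, ws, hQ', hs⟩ := exists_gen_kernel hl
  refine ⟨P ⊞ Q, biprod.map p q, gen_biprod O hP hQ, ?_, ft_kernel_of_exact (g := biprod.map r s)
    (w := ?_) (gen_biprod O hP' hQ') (exact_of_elements fun T z hz => ?_)⟩
  · rw [epi_iff_surjective_up_to_refinements]
    intro T z
    obtain ⟨T₁, e₁, _, x, hx⟩ := surjective_up_to_refinements_of_epi p (z ≫ biprod.fst)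
    obtain ⟨T₂, e₂, _, y, hy⟩ := surjective_up_to_refinements_of_epi q (e₁ ≫ z ≫ biprod.snd)
    refine ⟨T₂, e₂ ≫ e₁, inferInstance, biprod.lift (e₂ ≫ x) y, biprod.hom_ext _ _ ?_ ?_⟩
    · simp [hx]
    · simp [hy]
  · apply biprod.hom_ext' <;> simp [reassoc_of% wr, reassoc_of% ws]
  · obtain ⟨T₁, e₁, _, x, hx⟩ := hr.exact_up_to_refinements (z ≫ biprod.fst) (by
      simpa using congrArg (· ≫ biprod.fst) hz)
    obtain ⟨T₂, e₂, _, y, hy⟩ := hs.exact_up_to_refinements (e₁ ≫ z ≫ biprod.snd) (by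
      simpa using congrArg (fun t => e₁ ≫ t ≫ biprod.snd) hz)
    have hx' : e₁ ≫ z ≫ biprod.fst = x ≫ r := hx
    have hy' : e₂ ≫ e₁ ≫ z ≫ biprod.snd = y ≫ s := hy
    refine ⟨T₂, e₂ ≫ e₁, inferInstance, biprod.lift (e₂ ≫ x) y, biprod.hom_ext _ _ ?_ ?_⟩
    · simp [hx']
    · simp [hy']

lemma gen_zero : Gen O B (∐ fun i : Fin 0 => _root_.ModSite.freeOn O ((Fin.elim0 i : C))) :=
  ⟨0, fun i => Fin.elim0 i, fun i => Fin.elim0 i, ⟨Iso.refl _⟩⟩

include hB₁ hB₂ in
theorem isFiltered : IsFiltered (Λ O B F) := by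
  have : IsFilteredOrEmpty (Λ O B F) :=
    { cocone_objs := fun a b => by
        obtain ⟨c, ⟨e⟩⟩ := exists_idx (F := F) (fp_biprod (fp_obj a) (fp_obj b)) (biprod.desc a.φ b.φ)
        exact ⟨c, InducedCategory.homMk (Over.homMk biprod.inl (biprod.inl_desc _ _) ≫ e.inv),
          InducedCategory.homMk (Over.homMk biprod.inr (biprod.inr_desc _ _) ≫ e.inv), trivial⟩
      cocone_maps := fun a b f g => by
        have hz : (f.hom.left - g.hom.left) ≫ b.φ = 0 := by
          rw [Preadditive.sub_comp]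
          exact sub_eq_zero.2 ((Over.w f.hom).trans (Over.w g.hom).symm)
        obtain ⟨c, ⟨e⟩⟩ := exists_idx (F := F)
          (fp_cokernel (genAx O hB₁ hB₂) (f.hom.left - g.hom.left) (ft_of_fp (fp_obj a)) (fp_obj b))
          (cokernel.desc _ b.φ hz)
        refine ⟨c, InducedCategory.homMk (Over.homMk (cokernel.π _) (cokernel.π_desc _ _ _) ≫ e.inv), ?_⟩
        apply InducedCategory.hom_ext
        apply Over.OverMorphism.ext
        have h := cokernel.condition (f.hom.left - g.hom.left)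
        rw [Preadditive.sub_comp, sub_eq_zero] at h
        simp [reassoc_of% h] }
  obtain ⟨a, -⟩ := exists_idx (F := F) (fp_of_presentation (Gen := Gen O B)
    (0 : (∐ fun i : Fin 0 => _root_.ModSite.freeOn O ((Fin.elim0 i : C))) ⟶ _) gen_zero gen_zero
    (Iso.refl _)) 0
  exact { nonempty := ⟨a⟩ }

lemma fp_free {W : C} (hW : W ∈ B) : FP (Gen O B) ((free O).obj W) := by
  let P := ∐ fun _ : Fin 1 => _root_.ModSite.freeOn O W
  refine fp_of_presentation (Q := ∐ fun i : Fin 0 => _root_.ModSite.freeOn O ((Fin.elim0 i : C)))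
    (P := P) 0 ⟨1, fun _ => W, fun _ => hW, ⟨Iso.refl _⟩⟩ gen_zero ?_
  exact (freeIso O W).symm ≪≫ (coproductUniqueIso fun _ : Fin 1 => _root_.ModSite.freeOn O W).symm ≪≫
    (cokernelZeroIsoTarget).symm

include hB₁ in
lemma eq_zero_of_B {M N : _root_.ModSite.Mod O} (ψ : M ⟶ N)
    (h : ∀ W ∈ B, ∀ s : (free O).obj W ⟶ M, s ≫ ψ = 0) : ψ = 0 := by
  refine (Groth.Agent.Lib.RlimTrunc.ModSheaf.isDetecting O).separating ψ fun U s => ?_
  obtain ⟨κ, Y, g, hg, hY⟩ := hB₁ U
  refine (Groth.Agent.Lib.RlimTrunc.ModSheaf.isDetecting O).eq_zero_of_cover _ Y g hg fun k => ?_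
  rw [← Category.assoc]
  exact h _ (hY k) _

include hB₁ hB₂ in
/-- The cocone is a colimit. -/
theorem nonempty_isColimit : Nonempty (IsColimit (Cocone.mk F (ι O B F))) := by
  haveI := isFiltered (O := O) (F := F) hB₁ hB₂
  haveI : IsConnected (Λ O B F) := IsFiltered.isConnected _
  haveI := Groth.Agent.Lib.DerivedOX.Grothendieck.isGrothendieckAbelian_sheafOfModules
    (_root_.ModSite.ringSh O)
  let G := D O B F
  let K := (Functor.const (Λ O B F)).obj F
  let cK := isColimitConstCocone (Λ O B F) F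
  let φ : colimit G ⟶ F := colimit.desc G (Cocone.mk F (ι O B F))
  have hepi : Epi φ := by
    refine Preadditive.epi_of_cancel_zero _ fun {Z} k hk => eq_zero_of_B hB₁ k fun W hW s => ?_
    obtain ⟨a, ⟨e⟩⟩ := exists_idx (F := F) (fp_free hW) s
    have h1 : e.inv.left ≫ colimit.ι G a ≫ φ = s :=
      (congrArg (e.inv.left ≫ ·) (colimit.ι_desc _ _)).trans (Over.w e.inv)
    rw [← h1, Category.assoc, Category.assoc, hk, comp_zero, comp_zero]
  have hker : ∀ a, kernel.ι ((ι O B F).app a) ≫ colimit.ι G a = 0 := fun a =>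
    eq_zero_of_B hB₁ _ fun W hW s => by
      let t := s ≫ kernel.ι ((ι O B F).app a)
      have ht : t ≫ a.φ = 0 := (Category.assoc _ _ _).trans
        ((congrArg (s ≫ ·) (kernel.condition ((ι O B F).app a))).trans comp_zero)
      obtain ⟨b, ⟨e⟩⟩ := exists_idx (F := F) (fp_cokernel (genAx O hB₁ hB₂) t
        (ft_of_fp (fp_free hW)) (fp_obj a)) (cokernel.desc t a.φ ht)
      let g : (a : Λ O B F) ⟶ b :=
        InducedCategory.homMk (Over.homMk (U := Over.mk a.φ) (V := Over.mk (cokernel.desc t a.φ ht))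
          (cokernel.π t) (cokernel.π_desc _ _ _) ≫ e.inv)
      rw [← Category.assoc, ← colimit.w G g]
      change t ≫ (cokernel.π t ≫ e.inv.left) ≫ colimit.ι G b = 0
      exact (congrArg (t ≫ ·) (Category.assoc _ _ _)).trans ((cokernel.condition_assoc t _).trans zero_comp)
  haveI := hepi
  have hmono : Mono φ := by
    let Φ := colim (J := Λ O B F) (C := _root_.ModSite.Mod O)
    have hex : (ShortComplex.mk (kernel.ι (ι O B F)) (ι O B F) (kernel.condition _)).Exact :=
      ShortComplex.exact_of_f_is_kernel _ (kernelIsKernel _)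
    haveI : PreservesFiniteLimits Φ := inferInstance
    haveI : PreservesFiniteColimits Φ := inferInstance
    have hex' := hex.map Φ
    have h0 : Φ.map (kernel.ι (ι O B F)) = 0 := colimit.hom_ext fun a => by
      refine (ι_colimMap (kernel.ι (ι O B F)) a).trans (Eq.trans ?_ comp_zero.symm)
      obtain ⟨l, hl⟩ : ∃ l, l ≫ kernel.ι ((ι O B F).app a) = (kernel.ι (ι O B F)).app a :=
        ⟨kernel.lift _ _ (by rw [← NatTrans.comp_app, kernel.condition]; rfl), kernel.lift_ι _ _ _⟩
      rw [← hl, Category.assoc, hker a, comp_zero]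
    have hm : Mono (Φ.map (ι O B F)) := hex'.mono_g h0
    have hφ : φ = Φ.map (ι O B F) ≫ ((colimit.isColimit K).coconePointUniqueUpToIso cK).hom := by
      refine colimit.hom_ext fun a => ?_
      refine (colimit.ι_desc _ _).trans ?_
      refine Eq.trans ?_ ((reassoc_of% (ι_colimMap (ι O B F) a)) _).symm
      refine Eq.trans ?_ (congrArg (_ ≫ ·)
        (IsColimit.comp_coconePointUniqueUpToIso_hom (colimit.isColimit K) cK a)).symm
      exact (Category.comp_id _).symm
    rw [hφ]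
    exact @mono_comp _ _ _ _ _ _ hm _ inferInstance
  exact ⟨@IsColimit.ofPointIso _ _ _ _ _ _ _ (colimit.isColimit G) (isIso_of_mono_of_epi φ)⟩

end Groth.Agent.Lib.FinPresFree.Colimit
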